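import Mathlib

/-! Flatness over dual numbers. -/

set_option autoImplicit false
set_option maxHeartbeats 1000000

universe u v w

namespace Groth.Agent.DualFlatLib

variable {A : Type u} [CommRing A]

/-- A module over the dual numbers with flat reduction and exact multiplication by `ε` is flat. -/
theorem flat_of_reduction {M : Type v} [AddCommGroup M] [Module (DualNumber A) M]
    {N : Type w} [AddCommGroup N] [Module A N] [Module.Flat A N] (π : M →+ N)
    (hπsmul : ∀ (f : DualNumber A) (m : M), π (f • m) = f.fst • π m) (hπsurj : Function.Surjective π)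
    (hker : ∀ m : M, π m = 0 → ∃ y : M, m = (DualNumber.eps : DualNumber A) • y)
    (heps : ∀ m : M, (DualNumber.eps : DualNumber A) • m = 0 → π m = 0) :
    Module.Flat (DualNumber A) M := by
  have hπadd : ∀ m m' : M, π (m + m') = π m + π m' := fun m m' => map_add _ m m'
  have hπsum : ∀ {n : ℕ} (g : Fin n → M), π (∑ i, g i) = ∑ i, π (g i) := fun g => map_sum _ g _
  refine Module.Flat.of_forall_isTrivialRelation fun {l f m} hrel => ?_
  have h0 : ∑ i, (f i).fst • π (m i) = 0 := by
    simp only [← hπsmul, ← hπsum, hrel]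
    exact π.map_zero
  obtain ⟨n, c, ybar, hmy, hac⟩ := Module.Flat.isTrivialRelation_of_sum_smul_eq_zero (R := A) (M := N)
    (f := fun i => (f i).fst) (x := fun i => π (m i)) (by convert h0 using 1)
  choose y hy using fun j => hπsurj (ybar j)
  have hz : ∀ i, ∃ z : M, m i - ∑ j, (TrivSqZeroExt.inl (c i j) : DualNumber A) • y j = (DualNumber.eps : DualNumber A) • z := by
    intro i
    refine hker _ ?_
    have h1 := hπadd (m i - ∑ j, (TrivSqZeroExt.inl (c i j) : DualNumber A) • y j) (∑ j, (TrivSqZeroExt.inl (c i j) : DualNumber A) • y j)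
    rw [sub_add_cancel, hπsum] at h1
    simp only [hπsmul, TrivSqZeroExt.fst_inl, hy, ← hmy i] at h1
    exact (add_eq_right.mp h1.symm)
  choose z hz using hz
  have hm : ∀ i, m i = ∑ j, (TrivSqZeroExt.inl (c i j) : DualNumber A) • y j + (DualNumber.eps : DualNumber A) • z i :=
    fun i => by rw [← hz i]; abel
  let d : Fin n → A := fun j => ∑ i, (f i).snd * c i j
  have hw : (DualNumber.eps : DualNumber A) • (∑ j, (TrivSqZeroExt.inl (d j) : DualNumber A) • y j +
      ∑ i, (TrivSqZeroExt.inl (f i).fst : DualNumber A) • z i) = 0 := by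
    rw [← hrel]
    simp only [hm, smul_add, Finset.smul_sum, smul_smul, Finset.sum_add_distrib]
    congr 1
    · rw [Finset.sum_comm]
      refine Finset.sum_congr rfl fun j _ => ?_
      rw [← Finset.sum_smul]
      congr 1
      apply TrivSqZeroExt.ext
      · simp [TrivSqZeroExt.fst_sum, hac j]
      · simp [TrivSqZeroExt.snd_sum, d]
    · refine Finset.sum_congr rfl fun i _ => ?_
      congr 1
      apply TrivSqZeroExt.ext <;> simp
  have hw0 := heps _ hw
  rw [hπadd, hπsum, hπsum] at hw0
  simp only [hπsmul, TrivSqZeroExt.fst_inl] at hw0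
  have hw1 : ∑ s : Fin n ⊕ Fin l, Sum.elim d (fun i => (f i).fst) s • Sum.elim ybar (fun i => π (z i)) s = 0 := by
    rw [Fintype.sum_sum_type]
    simpa [hy] using hw0
  obtain ⟨r, g, ubar, hgu, hdg⟩ := Module.Flat.isTrivialRelation_of_sum_smul_eq_zero (R := A) (M := N)
    (f := Sum.elim d (fun i => (f i).fst)) (x := Sum.elim ybar (fun i => π (z i))) (by convert hw1 using 1)
  choose u hu using fun e => hπsurj (ubar e)
  have hlift : ∀ (q : M) (s : Fin n ⊕ Fin l), π q = Sum.elim ybar (fun i => π (z i)) s →
      ∃ q' : M, q = ∑ e, (TrivSqZeroExt.inl (g s e) : DualNumber A) • u e + (DualNumber.eps : DualNumber A) • q' := by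
    intro q s hq
    have h1 := hπadd (q - ∑ e, (TrivSqZeroExt.inl (g s e) : DualNumber A) • u e) (∑ e, (TrivSqZeroExt.inl (g s e) : DualNumber A) • u e)
    rw [sub_add_cancel, hπsum, hq, hgu s] at h1
    simp only [hπsmul, TrivSqZeroExt.fst_inl, hu] at h1
    obtain ⟨q', hq'⟩ := hker _ (add_eq_right.mp h1.symm)
    exact ⟨q', by rw [← hq']; abel⟩
  choose y' hy' using fun j => hlift (y j) (Sum.inl j) (hy j)
  choose z' hz' using fun i => hlift (z i) (Sum.inr i) rfl
  refine ⟨r + n, fun i => Fin.append (fun e => TrivSqZeroExt.inl (∑ j, c i j * g (Sum.inl j) e) + TrivSqZeroExt.inr (g (Sum.inr i) e))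
    (fun j => TrivSqZeroExt.inr (c i j)), Fin.append u y', fun i => ?_, fun j => ?_⟩
  · have hee : (DualNumber.eps : DualNumber A) * DualNumber.eps = 0 := DualNumber.eps_mul_eps
    rw [Fin.sum_univ_add]
    simp only [Fin.append_left, Fin.append_right]
    rw [hm i, hz' i]
    simp only [hy', smul_add, Finset.smul_sum, smul_smul, hee, zero_smul, add_zero, Finset.sum_add_distrib, add_smul]
    rw [Finset.sum_comm, add_right_comm]
    congr 1
    congr 1
    · refine Finset.sum_congr rfl fun e _ => ?_
      rw [← Finset.sum_smul]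
      congr 1
      apply TrivSqZeroExt.ext <;> simp [TrivSqZeroExt.fst_sum, TrivSqZeroExt.snd_sum]
    · refine Finset.sum_congr rfl fun e _ => ?_
      congr 1
      apply TrivSqZeroExt.ext <;> simp
    · refine Finset.sum_congr rfl fun e _ => ?_
      congr 1
      apply TrivSqZeroExt.ext <;> simp
  · refine Fin.addCases (fun e => ?_) (fun e => ?_) j
    · simp only [Fin.append_left]
      apply TrivSqZeroExt.ext
      · simp only [TrivSqZeroExt.fst_sum, TrivSqZeroExt.fst_zero]
        simp [Finset.mul_sum]
        rw [Finset.sum_comm]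
        refine Finset.sum_eq_zero fun j _ => ?_
        simp only [← mul_assoc, ← Finset.sum_mul, hac j, zero_mul]
      · have h2 := hdg e
        rw [Fintype.sum_sum_type] at h2
        simp only [Sum.elim_inl, Sum.elim_inr] at h2
        simp only [TrivSqZeroExt.snd_sum, TrivSqZeroExt.snd_zero]
        simp only [DualNumber.snd_mul, TrivSqZeroExt.fst_add, TrivSqZeroExt.snd_add, TrivSqZeroExt.fst_inl, TrivSqZeroExt.snd_inl, TrivSqZeroExt.fst_inr, TrivSqZeroExt.snd_inr, zero_add, add_zero, Finset.sum_add_distrib]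
        rw [← h2, add_comm]
        congr 1
        simp only [d, Finset.sum_mul, Finset.mul_sum]
        rw [Finset.sum_comm]
        simp only [mul_assoc]
    · simp only [Fin.append_right]
      apply TrivSqZeroExt.ext
      · simp [TrivSqZeroExt.fst_sum]
      · simp [TrivSqZeroExt.snd_sum, mul_comm]
        conv_rhs => rw [← hac e]
        exact Finset.sum_congr rfl fun i _ => mul_comm _ _

/-- In a flat module over the dual numbers the annihilator of `ε` is its image. -/
theorem exists_eq_eps_smul {M : Type v} [AddCommGroup M] [Module (DualNumber A) M] [Module.Flat (DualNumber A) M]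
    {q : M} (hq : (DualNumber.eps : DualNumber A) • q = 0) : ∃ y : M, q = (DualNumber.eps : DualNumber A) • y := by
  have hq1 : ∑ _i : Fin 1, (DualNumber.eps : DualNumber A) • q = 0 := by rw [Fin.sum_univ_one, hq]
  obtain ⟨n, a, w, hw, ha⟩ := Module.Flat.isTrivialRelation_of_sum_smul_eq_zero hq1
  have h3 : ∀ j, a 0 j = (DualNumber.eps : DualNumber A) * TrivSqZeroExt.inl (a 0 j).snd := by
    intro j
    have h4 := congrArg TrivSqZeroExt.snd (ha j)
    have h5 : (a 0 j).fst = 0 := by simpa using h4
    apply TrivSqZeroExt.ext <;> simp [h5]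
  refine ⟨∑ j, (TrivSqZeroExt.inl (a 0 j).snd : DualNumber A) • w j, ?_⟩
  conv_lhs => rw [show q = ∑ j, a 0 j • w j from hw 0]
  rw [Finset.smul_sum]
  refine Finset.sum_congr rfl fun j _ => ?_
  rw [smul_smul, ← h3 j]

end Groth.Agent.DualFlatLib
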